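import Groth.Agent.AVCharpoly.Charpoly
import Groth.Prelude.Def_SGA7a

/-! Interfaces to the characteristic polynomial of an endomorphism of an abelian variety. -/

noncomputable section

set_option linter.style.haveILetI false
set_option linter.unusedSectionVars false
set_option maxHeartbeats 1000000
set_option synthInstance.maxHeartbeats 200000

universe u v

open CategoryTheory MonoidalCategory CartesianMonoidalCategory MonObj GrpObj AlgebraicGeometry
open Polynomial

namespace Groth.Agent.AVCharpoly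

open Groth.Agent

variable {k : Type u} [Field k] {A : Over (Spec (CommRingCat.of k))}
  [GrpObj A] [IsCommMonObj A] [IsProper A.hom] [GeometricallyIntegral A.hom]

theorem toHom_sub_intCast (α : A ⟶ A) [IsMonHom α] (n : ℤ) :
    α * 𝟙 A ^ (-n) = ((EndAV.End.of α) - (n : EndAV.End A)).toHom := by
  rw [EndAV.End.toHom_sub, EndAV.End.toHom_intCast, div_eq_mul_inv, zpow_neg]
  rfl

/-- The degree is the value taken by the rank, with zero for non-finite maps. -/
theorem degQ_iff (F : A ⟶ A) [IsMonHom F] (v : ℚ) :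
    degQ F = v ↔ (IsFinite F.left → ∀ a : A.left, (F.left.finrank a : ℚ) = v) ∧ (¬ IsFinite F.left → v = 0) := by
  refine ⟨fun h => ⟨fun hf a => (finrank_eq_degQ F hf a).trans h, fun hf => ?_⟩, fun h => degQ_eq h.1 h.2⟩
  rw [← h, degQ_of_not F hf]

theorem isDegPoly_of_rat {φ : EndAV.End A} {P : Polynomial ℚ}
    (hP : ∀ n : ℤ, (IsFinite (φ - (n : EndAV.End A)).toHom.left →
        ∀ a : A.left, ((φ - (n : EndAV.End A)).toHom.left.finrank a : ℚ) = P.eval (n : ℚ)) ∧
      (¬ IsFinite (φ - (n : EndAV.End A)).toHom.left → P.eval (n : ℚ) = 0)) : IsDegPoly φ P :=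
  fun n => degQ_eq (hP n).1 (hP n).2

theorem isDegPoly_of_int (α : A ⟶ A) [IsMonHom α] {P : Polynomial ℤ}
    (hP : ∀ n : ℤ, (IsFinite (α * 𝟙 A ^ (-n)).left →
        ∀ a : A.left, (Scheme.Hom.finrank (α * 𝟙 A ^ (-n)).left a : ℤ) = P.eval n) ∧
      (¬ IsFinite (α * 𝟙 A ^ (-n)).left → P.eval n = 0)) :
    IsDegPoly (EndAV.End.of α) (P.map (Int.castRingHom ℚ)) := by
  intro n
  rw [← toHom_sub_intCast, Polynomial.eval_intCast_map]
  refine degQ_eq (fun hf a => ?_) fun hf => ?_
  · have := (hP n).1 hf a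
    rw [eq_intCast, Int.cast_id, ← this, Int.cast_natCast]
  · simp [(hP n).2 hf]

/-- The characteristic polynomial on points in any algebraically closed field with trivial
structure conversions. -/
theorem exists_charpoly (Ω : Type u) [Field Ω] [Algebra k Ω] [IsAlgClosed Ω] (l : ℕ) [Fact l.Prime]
    (hl : (l : k) ≠ 0) [Module.Free ℤ_[l] (AbDual.TateMod A l (SGA7.pt Ω))]
    [Module.Finite ℤ_[l] (AbDual.TateMod A l (SGA7.pt Ω))] {g : ℕ} (hg : topologicalKrullDim A.left = g)
    (φ : EndAV.End A) :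
    ∃ P : Polynomial ℤ, P.Monic ∧ P.natDegree = 2 * g ∧ IsDegPoly φ (P.map (Int.castRingHom ℚ)) ∧
      (EndAV.End.tateRep l (SGA7.pt Ω) φ).charpoly = P.map (Int.castRingHom ℤ_[l]) := by
  obtain ⟨P, hm, hd, hP⟩ := exists_int_isDegPoly hg φ
  exact ⟨P, hm, hd, hP, charpoly_eq_int Ω l hl φ hP⟩

/-- Version over an algebraically closed field with points in the field itself. -/
theorem charpoly_eq_int_self [IsAlgClosed k] (l : ℕ) [Fact l.Prime] (hl : (l : k) ≠ 0)
    [Module.Free ℤ_[l] (AbDual.TateMod A l (Over.mk (𝟙 (Spec (CommRingCat.of k)))))]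
    [Module.Finite ℤ_[l] (AbDual.TateMod A l (Over.mk (𝟙 (Spec (CommRingCat.of k)))))]
    (φ : EndAV.End A) {Q : Polynomial ℤ} (hQ : IsDegPoly φ (Q.map (Int.castRingHom ℚ))) :
    (EndAV.End.tateRep l (Over.mk (𝟙 (Spec (CommRingCat.of k)))) φ).charpoly = Q.map (Int.castRingHom ℤ_[l]) := by
  have key : ∀ T : Over (Spec (CommRingCat.of k)), T = SGA7.pt k →
      [Module.Free ℤ_[l] (AbDual.TateMod A l T)] → [Module.Finite ℤ_[l] (AbDual.TateMod A l T)] →
      (EndAV.End.tateRep l T φ).charpoly = Q.map (Int.castRingHom ℤ_[l]) := by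
    intro T hT _ _
    subst hT
    exact charpoly_eq_int k l hl φ hQ
  refine key _ ?_
  show _ = Over.mk (Spec.map (CommRingCat.ofHom (algebraMap k k)))
  rw [show CommRingCat.ofHom (algebraMap k k) = 𝟙 (CommRingCat.of k) from rfl, Spec.map_id]

end Groth.Agent.AVCharpoly
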