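import Groth.Agent.AVSubLib.DegDet
import Groth.Agent.S15671
import Groth.Agent.AVDegPoly.Main
import Groth.Agent.TorsPtsLib.BC
import Mathlib.LinearAlgebra.Determinant

/-! Degree and determinant on the Tate module of geometric points. -/

noncomputable section

set_option linter.style.haveILetI false
set_option linter.unusedSectionVars false

universe u

open scoped Matrix
open CategoryTheory CategoryTheory.Limits MonoidalCategory CartesianMonoidalCategory MonObj GrpObj AlgebraicGeometry

namespace Groth.Agent.AVCharpoly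

open Groth.Agent

variable {S S' : Scheme.{u}} (σ : S' ⟶ S) (A : Over S) [GrpObj A] [IsCommMonObj A]

attribute [local instance] Functor.grpObjObj

/-- Points over `σ` are the sections of the base change, on Tate modules. -/
def tateBC [IsCommMonObj ((Over.pullback σ).obj A)] (l : ℕ) [Fact l.Prime] :
    AbDual.TateMod A l (Over.mk σ) ≃ₗ[ℤ_[l]] AbDual.TateMod ((Over.pullback σ).obj A) l (𝟙_ (Over S')) :=
  let e : Additive (Over.mk σ ⟶ A) ≃+ Additive (𝟙_ (Over S') ⟶ (Over.pullback σ).obj A) :=
    MulEquiv.toAdditive (TorsPtsLib.bcPtsEquiv σ A)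
  { toFun := fun x => ⟨fun n => e ((x : ℕ → Additive (Over.mk σ ⟶ A)) n),
      fun n => by rw [← map_nsmul, x.torsion n, map_zero], fun n => by rw [← map_nsmul, x.compat n]⟩
    invFun := fun y => ⟨fun n => e.symm ((y : ℕ → Additive (𝟙_ (Over S') ⟶ (Over.pullback σ).obj A)) n),
      fun n => by rw [← map_nsmul, y.torsion n, map_zero], fun n => by rw [← map_nsmul, y.compat n]⟩
    left_inv := fun x => AbDual.TateMod.ext fun n => e.symm_apply_apply _
    right_inv := fun y => AbDual.TateMod.ext fun n => e.apply_symm_apply _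
    map_add' := fun x y => AbDual.TateMod.ext fun n => map_add e _ _
    map_smul' := fun a x => AbDual.TateMod.ext fun n => map_nsmul e _ _ }

theorem tateBC_natural {B : Over S} [GrpObj B] [IsCommMonObj B] [IsCommMonObj ((Over.pullback σ).obj A)]
    [IsCommMonObj ((Over.pullback σ).obj B)] (l : ℕ) [Fact l.Prime] (f : A ⟶ B) [IsMonHom f]
    [IsMonHom ((Over.pullback σ).map f)] :
    (tateBC σ B l).toLinearMap ∘ₗ AbDual.tateMapₗ (l := l) (T := Over.mk σ) f =
      AbDual.tateMapₗ (l := l) (T := 𝟙_ (Over S')) ((Over.pullback σ).map f) ∘ₗ (tateBC σ A l).toLinearMap := by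
  refine LinearMap.ext fun x => AbDual.TateMod.ext fun n => congrArg Additive.ofMul ?_
  show TorsPtsLib.toBC σ B (((x : ℕ → Additive (Over.mk σ ⟶ A)) n).toMul ≫ f) =
    TorsPtsLib.toBC σ A ((x : ℕ → Additive (Over.mk σ ⟶ A)) n).toMul ≫ (Over.pullback σ).map f
  rw [TorsPtsLib.toBC_eq, TorsPtsLib.toBC_eq σ A, Functor.map_comp, Category.assoc]

end Groth.Agent.AVCharpoly

namespace Groth.Agent.AVCharpoly

open Groth.Agent

attribute [local instance] Functor.grpObjObj

variable {k : Type u} [Field k]

/-- The base change square of a morphism. -/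
theorem isPullback_map {S' : Scheme.{u}} (σ : S' ⟶ Spec (CommRingCat.of k)) {A B : Over (Spec (CommRingCat.of k))}
    (f : A ⟶ B) : IsPullback (pullback.fst A.hom σ) ((Over.pullback σ).map f).left f.left (pullback.fst B.hom σ) := by
  refine IsPullback.of_bot ?_ (pullback.lift_fst _ _ _).symm (IsPullback.of_hasPullback B.hom σ)
  rw [show ((Over.pullback σ).map f).left ≫ pullback.snd B.hom σ = pullback.snd A.hom σ from pullback.lift_snd _ _ _,
    Over.w f]
  exact IsPullback.of_hasPullback A.hom σ

/-- Degree and determinant on geometric Tate modules. -/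
theorem deg_det {Ω : Type u} [Field Ω] [Algebra k Ω] [IsAlgClosed Ω] (l : ℕ) [Fact l.Prime] (hl : (l : k) ≠ 0)
    {A : Over (Spec (CommRingCat.of k))} [GrpObj A] [IsCommMonObj A] [IsProper A.hom] [GeometricallyIntegral A.hom]
    (f : A ⟶ A) [IsMonHom f] :
    (IsFinite f.left → ∀ a : A.left,
        LinearMap.det (AbDual.tateMapₗ (l := l) (T := Over.mk (Spec.map (CommRingCat.ofHom (algebraMap k Ω)))) f) ≠ 0 ∧
        (LinearMap.det (AbDual.tateMapₗ (l := l) (T := Over.mk (Spec.map (CommRingCat.ofHom (algebraMap k Ω)))) f)).valuation =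
          padicValNat l (f.left.finrank a)) ∧
      (¬ IsFinite f.left →
        LinearMap.det (AbDual.tateMapₗ (l := l) (T := Over.mk (Spec.map (CommRingCat.ofHom (algebraMap k Ω)))) f) = 0) := by
  let σ := Spec.map (CommRingCat.ofHom (algebraMap k Ω))
  let A' := (Over.pullback σ).obj A
  haveI : IsProper A'.hom := inferInstanceAs (IsProper (pullback.snd A.hom σ))
  haveI : GeometricallyIntegral A'.hom := inferInstanceAs (GeometricallyIntegral (pullback.snd A.hom σ))
  haveI : IsCommMonObj A' := isCommMonObj_of_isProper_of_geometricallyIntegral _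
  let f' : A' ⟶ A' := (Over.pullback σ).map f
  haveI : IsMonHom f' := inferInstance
  haveI : IsIntegral A.left := GeometricallyIntegral.isIntegral_of_subsingleton A.hom
  haveI : IsIntegral A'.left := GeometricallyIntegral.isIntegral_of_subsingleton A'.hom
  obtain ⟨g, hg⟩ := TorsPtsLib.exists_dim A
  have hg' : topologicalKrullDim A'.left = g := TorsPtsLib.dim_bc σ A hg
  have hlΩ : (l : Ω) ≠ 0 := by
    rw [← map_natCast (algebraMap k Ω)]
    exact (map_ne_zero _).mpr hl
  obtain ⟨hfree, hfin, hrk⟩ := (TorsPtsLib.geom_points σ A hg).2.2 l hlΩ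
  haveI := hfree
  haveI := hfin
  let Φ := tateBC σ A l
  haveI : Module.Free ℤ_[l] (AbDual.TateMod A' l (𝟙_ _)) := Module.Free.of_equiv Φ
  haveI : Module.Finite ℤ_[l] (AbDual.TateMod A' l (𝟙_ _)) := Module.Finite.equiv Φ
  have hnat : AbDual.tateMapₗ (l := l) (T := 𝟙_ (Over (Spec (CommRingCat.of Ω)))) f' =
      Φ.toLinearMap ∘ₗ AbDual.tateMapₗ (l := l) (T := Over.mk σ) f ∘ₗ Φ.symm.toLinearMap := by
    rw [← LinearMap.comp_assoc, tateBC_natural]
    exact LinearMap.ext fun y => by simp [Φ, f', A']
  have hdet : LinearMap.det (AbDual.tateMapₗ (l := l) (T := Over.mk σ) f) =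
      LinearMap.det (AbDual.tateMapₗ (l := l) (T := 𝟙_ (Over (Spec (CommRingCat.of Ω)))) f') := by
    rw [hnat, LinearMap.det_conj]
  have hsq := isPullback_map σ f
  haveI : Surjective (pullback.fst A.hom σ) := by
    haveI : Surjective σ := ⟨fun y => ⟨IsLocalRing.closedPoint Ω, Subsingleton.elim (α := PrimeSpectrum k) _ _⟩⟩
    infer_instance
  let b : Module.Basis (Fin (2 * g)) ℤ_[l] (AbDual.TateMod A' l (𝟙_ _)) :=
    (Module.finBasisOfFinrankEq ℤ_[l] _ hrk).map Φ
  have hM : LinearMap.det (AbDual.tateMapₗ (l := l) (T := Over.mk σ) f) =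
      (LinearMap.toMatrix b b (AbDual.tateMapₗ (l := l) (T := 𝟙_ (Over (Spec (CommRingCat.of Ω)))) f')).det := by
    rw [hdet, LinearMap.det_toMatrix]
  refine ⟨fun hf a => ?_, fun hf => ?_⟩
  · haveI := hf
    haveI : IsFinite f'.left := MorphismProperty.of_isPullback hsq ‹IsFinite f.left›
    haveI : Surjective f.left := H23.Isogeny.surjective_of_isFinite A.hom A.hom f.left (Over.w f) rfl
    haveI : Surjective f'.left := H23.Isogeny.surjective_of_isFinite A'.hom A'.hom f'.left (Over.w f') rfl
    obtain ⟨-, hflat, hlfp⟩ := AVDegPoly.isFinite_of_surjective hg hg f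
    haveI := hflat
    haveI := hlfp
    obtain ⟨a', ha'⟩ := (pullback.fst A.hom σ).surjective a
    have h1 := AVSubLib.valuation_le l hlΩ A' A' f' b b a'
    have h2 := AVSubLib.valuation_eq l hlΩ A' A' hg' f' b b a'
    rw [hM]
    refine ⟨h1.1, ?_⟩
    rw [← h2, Scheme.Hom.finrank_of_isPullback _ _ _ _ hsq a', ha']
  · rw [hdet]
    haveI : IsProper (f.left ≫ A.hom) := by rw [Over.w f]; infer_instance
    by_contra hne
    refine hf ?_
    haveI : Smooth A'.hom := S7795.result A'
    rw [← LinearMap.det_toMatrix b] at hne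
    haveI : IsFinite f'.left := AVSubLib.isFinite_of_injective A' l hlΩ A' f' (fun x y hxy => b.repr.injective
      (Finsupp.ext fun i => congrFun (Matrix.mulVec_injective_of_det_ne_zero hne
        (show _ *ᵥ ⇑(b.repr x) = _ *ᵥ ⇑(b.repr y) by
          rw [LinearMap.toMatrix_mulVec_repr, LinearMap.toMatrix_mulVec_repr, hxy])) i))
    haveI : Surjective f'.left := H23.Isogeny.surjective_of_isFinite A'.hom A'.hom f'.left (Over.w f') rfl
    haveI : Surjective f.left := ⟨fun y => by
      obtain ⟨y', rfl⟩ := (pullback.fst A.hom σ).surjective y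
      obtain ⟨x', rfl⟩ := f'.left.surjective y'
      refine ⟨pullback.fst A.hom σ x', ?_⟩
      show (pullback.fst A.hom σ ≫ f.left) x' = (f'.left ≫ pullback.fst A.hom σ) x'
      rw [hsq.w]⟩
    exact (AVDegPoly.isFinite_of_surjective hg hg f).1

end Groth.Agent.AVCharpoly
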