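import Groth.Agent.AVCharpoly.Norm
import Groth.Agent.AVCharpoly.Geom
import Groth.Agent.AVHomForm.Rep
import Groth.Agent.AVDegPoly.Univ
import Groth.Agent.S12031
import Groth.Prelude.Def_EndTate
import Mathlib.NumberTheory.Padics.Complex
import Mathlib.LinearAlgebra.Charpoly.ToMatrix
import Mathlib.RingTheory.IntegralClosure.IntegrallyClosed
import Mathlib.RingTheory.Polynomial.Vieta

/-! The characteristic polynomial on the Tate module is the degree polynomial, with integral coefficients. -/

noncomputable section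

set_option linter.style.haveILetI false
set_option linter.unusedSectionVars false
set_option maxHeartbeats 1000000
set_option synthInstance.maxHeartbeats 200000

universe u v

open CategoryTheory MonoidalCategory CartesianMonoidalCategory MonObj GrpObj AlgebraicGeometry
open Polynomial

namespace Groth.Agent.AVCharpoly

open Groth.Agent

/-- The determinant of a polynomial in a matrix. -/
theorem det_aeval {L : Type v} [Field L] [IsAlgClosed L] {n : Type} [Fintype n] [DecidableEq n]
    (M : Matrix n n L) (G : Polynomial L) :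
    (Polynomial.aeval M G).det = (M.charpoly.roots.map fun w => G.eval w).prod := by
  have hsp : M.charpoly.Splits := IsAlgClosed.splits _
  have hcard : Multiset.card M.charpoly.roots = Fintype.card n := by
    rw [← hsp.natDegree_eq_card_roots, Matrix.charpoly_natDegree_eq_dim]
  rw [← (IsAlgClosed.splits G).eq_prod_roots.symm]
  induction G.roots using Multiset.induction with
  | empty =>
    simp [Matrix.algebraMap_eq_diagonal, Matrix.det_diagonal, Multiset.map_const', Multiset.prod_replicate, hcard]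
  | cons c s ih =>
    rw [Multiset.map_cons, Multiset.prod_cons,
      show C G.leadingCoeff * ((X - C c) * (s.map fun c => X - C c).prod) =
        C G.leadingCoeff * (s.map fun c => X - C c).prod * (X - C c) by ring]
    simp only [map_mul, Matrix.det_mul, Polynomial.eval_mul, Multiset.prod_map_mul] at ih ⊢
    rw [ih]
    congr 1
    have h1 : (Polynomial.aeval M) (X - C c) = -(Matrix.scalar n c - M) := by
      rw [map_sub, aeval_X, aeval_C, neg_sub]
      rfl
    rw [h1, Matrix.det_neg, ← Matrix.eval_charpoly]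
    conv_lhs => rw [hsp.eq_prod_roots_of_monic M.charpoly_monic]
    rw [Polynomial.eval_multiset_prod, Multiset.map_map, ← hcard]
    induction M.charpoly.roots using Multiset.induction with
    | empty => simp
    | cons w t iht =>
      simp only [Multiset.map_cons, Multiset.prod_cons, Multiset.card_cons, pow_succ] at iht ⊢
      rw [← iht]
      simp
      ring

theorem map_aeval_int {R S : Type*} [Ring R] [Ring S] [Algebra ℤ R] [Algebra ℤ S] (f : R →+* S) (x : R) (F : Polynomial ℤ) :
    f (Polynomial.aeval x F) = Polynomial.aeval (f x) F := by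
  induction F using Polynomial.induction_on' with
  | add p q hp hq => rw [map_add, map_add, map_add, hp, hq]
  | monomial n a => simp [Polynomial.aeval_monomial]

theorem exists_fin {L : Type v} (s : Multiset L) {n : ℕ} (h : Multiset.card s = n) :
    ∃ ω : Fin n → L, Finset.univ.val.map ω = s := by
  induction s using Quotient.inductionOn with
  | _ l =>
    obtain rfl : l.length = n := h
    exact ⟨fun i => l[i], by simp [Fin.univ_def]⟩

variable {k : Type u} [Field k] {A : Over (Spec (CommRingCat.of k))}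
  [GrpObj A] [IsCommMonObj A] [IsProper A.hom] [GeometricallyIntegral A.hom]

/-- The degree polynomial. -/
def IsDegPoly (φ : EndAV.End A) (P : Polynomial ℚ) : Prop :=
  ∀ n : ℤ, degQ (φ - (n : EndAV.End A)).toHom = P.eval (n : ℚ)

theorem IsDegPoly.eq {φ : EndAV.End A} {P Q : Polynomial ℚ} (hP : IsDegPoly φ P) (hQ : IsDegPoly φ Q) : P = Q := by
  refine Polynomial.eq_of_infinite_eval_eq _ _ ((Set.infinite_range_of_injective
    (Int.cast_injective (α := ℚ))).mono ?_)
  rintro _ ⟨n, rfl⟩
  exact (hP n).symm.trans (hQ n)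

theorem exists_isDegPoly {g : ℕ} (hg : topologicalKrullDim A.left = g) (φ : EndAV.End A) :
    ∃ P : Polynomial ℚ, P.Monic ∧ P.natDegree = 2 * g ∧ IsDegPoly φ P := by
  obtain ⟨P, hPm, hPd, hP⟩ := AVDegPoly.exists_poly_add_intMul A hg φ.toHom
  refine ⟨P.comp (-X), ?_, ?_, fun n => ?_⟩
  · rw [Polynomial.Monic, Polynomial.leadingCoeff_comp (by simp), hPm, hPd]
    simp [pow_mul]
  · rw [Polynomial.natDegree_comp, hPd]; simp
  · rw [Polynomial.eval_comp]
    have h := hP (-n)
    have e : φ.toHom * 𝟙 A ^ (-n) = (φ - (n : EndAV.End A)).toHom := by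
      rw [EndAV.End.toHom_sub, EndAV.End.toHom_intCast, div_eq_mul_inv, zpow_neg]
    rw [e] at h
    rw [degQ_eq h.1 h.2]
    simp

variable (Ω : Type u) [Field Ω] [Algebra k Ω] [IsAlgClosed Ω] (l : ℕ) [Fact l.Prime]

local notation "pΩ" => (Over.mk (Spec.map (CommRingCat.ofHom (algebraMap k Ω))))

theorem norm_degQ (hl : (l : k) ≠ 0) (ψ : EndAV.End A) :
    ‖((degQ ψ.toHom : ℚ) : ℚ_[l])‖ = ‖LinearMap.det (EndAV.End.tateRep l pΩ ψ)‖ := by
  obtain ⟨h1, h2⟩ := deg_det (Ω := Ω) l hl ψ.toHom
  by_cases h : IsFinite ψ.toHom.left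
  · obtain ⟨hne, hv⟩ := h1 h (η[A].left (IsLocalRing.closedPoint k))
    rw [degQ_of_finite _ h, EndAV.End.tateRep_apply, PadicInt.norm_eq_zpow_neg_valuation hne, hv, Rat.cast_natCast]
    haveI := h
    haveI : IsIntegral A.left := GeometricallyIntegral.isIntegral_of_subsingleton A.hom
    obtain ⟨g, hg⟩ := TorsPtsLib.exists_dim A
    haveI : Surjective ψ.toHom.left :=
      H23.Isogeny.surjective_of_isFinite A.hom A.hom ψ.toHom.left (Over.w ψ.toHom) rfl
    obtain ⟨hflat, hlfp, hpos, -⟩ := AVSubLib.exists_quasiInverse A A ψ.toHom (η[A].left (IsLocalRing.closedPoint k))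
    have hne' : ((ψ.toHom.left.finrank (η[A].left (IsLocalRing.closedPoint k)) : ℕ) : ℚ_[l]) ≠ 0 :=
      Nat.cast_ne_zero.2 (by omega)
    rw [Padic.norm_eq_zpow_neg_valuation hne', Padic.valuation_natCast]
  · rw [degQ_of_not _ h, EndAV.End.tateRep_apply, h2 h]
    simp

/-- The characteristic polynomial on the Tate module is the degree polynomial. -/
theorem charpoly_eq (hl : (l : k) ≠ 0) [Module.Free ℤ_[l] (AbDual.TateMod A l pΩ)]
    [Module.Finite ℤ_[l] (AbDual.TateMod A l pΩ)] {g : ℕ} (hg : topologicalKrullDim A.left = g)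
    (φ : EndAV.End A) {P : Polynomial ℚ} (hPm : P.Monic) (hPd : P.natDegree = 2 * g) (hP : IsDegPoly φ P) :
    (EndAV.End.tateRep l pΩ φ).charpoly.map (algebraMap ℤ_[l] ℚ_[l]) = P.map (algebraMap ℚ ℚ_[l]) := by
  classical
  let L := PadicAlgCl l
  let T := EndAV.End.tateRep l pΩ φ
  have hrk := (AVHomForm.tate_free Ω l hl A hg).2.2
  let b := Module.finBasisOfFinrankEq ℤ_[l] (AbDual.TateMod A l pΩ) hrk
  let ι' : ℤ_[l] →+* L := (algebraMap ℚ_[l] L).comp (algebraMap ℤ_[l] ℚ_[l])
  let M : Matrix (Fin (2 * g)) (Fin (2 * g)) L := (LinearMap.toMatrix b b T).map ι'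
  have hMc : M.charpoly = (T.charpoly.map (algebraMap ℤ_[l] ℚ_[l])).map (algebraMap ℚ_[l] L) := by
    rw [Polynomial.map_map, ← LinearMap.charpoly_toMatrix T b]
    exact Matrix.charpoly_map _ ι'
  have hcardP : Multiset.card (P.map (algebraMap ℚ L)).roots = 2 * g := by
    rw [← hPd, ← Polynomial.natDegree_map (algebraMap ℚ L)]
    exact (IsAlgClosed.splits _).natDegree_eq_card_roots.symm
  have hcardM : Multiset.card M.charpoly.roots = 2 * g := by
    rw [← (IsAlgClosed.splits M.charpoly).natDegree_eq_card_roots, Matrix.charpoly_natDegree_eq_dim, Fintype.card_fin]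
  obtain ⟨ω, hω⟩ := exists_fin _ hcardP
  obtain ⟨θ, hθ⟩ := exists_fin _ hcardM
  let S : Set L := Set.range ω ∪ Set.range θ
  let K := IntermediateField.adjoin ℚ_[l] S
  haveI : Finite S := ((Set.finite_range ω).union (Set.finite_range θ)).to_subtype
  haveI : FiniteDimensional ℚ_[l] K :=
    IntermediateField.finiteDimensional_adjoin fun x _ => Algebra.IsIntegral.isIntegral x
  let v : AbsoluteValue K ℝ := (NormedField.toAbsoluteValue L).comp (f := (algebraMap K L)) (algebraMap K L).injective
  let ω' : Fin (2 * g) → K := fun i => ⟨ω i, IntermediateField.subset_adjoin _ _ (Or.inl ⟨i, rfl⟩)⟩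
  let θ' : Fin (2 * g) → K := fun i => ⟨θ i, IntermediateField.subset_adjoin _ _ (Or.inr ⟨i, rfl⟩)⟩
  have hPL : (P.map (algebraMap ℚ ℚ_[l])).map (algebraMap ℚ_[l] L) = ∏ i, (X - C (ω i)) := by
    rw [Polynomial.map_map, Subsingleton.elim ((algebraMap ℚ_[l] L).comp (algebraMap ℚ ℚ_[l])) (algebraMap ℚ L),
      (IsAlgClosed.splits (P.map (algebraMap ℚ L))).eq_prod_roots_of_monic (hPm.map _), ← hω, Multiset.map_map]
    rfl
  have hDL : (T.charpoly.map (algebraMap ℤ_[l] ℚ_[l])).map (algebraMap ℚ_[l] L) = ∏ i, (X - C (θ i)) := by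
    rw [← hMc, (IsAlgClosed.splits M.charpoly).eq_prod_roots_of_monic M.charpoly_monic, ← hθ, Multiset.map_map]
    rfl
  have hinj := Polynomial.map_injective (algebraMap K L) (algebraMap K L).injective
  have toK : ∀ (R : Polynomial ℚ_[l]) (z : Fin (2 * g) → K),
      R.map (algebraMap ℚ_[l] L) = ∏ i, (X - C (z i : L)) → R.map (algebraMap ℚ_[l] K) = ∏ i, (X - C (z i)) := by
    intro R z h
    refine hinj ?_
    rw [Polynomial.map_map, ← IsScalarTower.algebraMap_eq, h, Polynomial.map_prod]
    simp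
  refine (S12031.result l K v (fun x => ?_) (2 * g) _ _ θ' ω' (toK _ θ' hDL) (toK _ ω' hPL) fun F => ?_)
  · show ‖algebraMap K L (algebraMap ℚ_[l] K x)‖ = ‖x‖
    rw [← IsScalarTower.algebraMap_apply]
    exact PadicAlgCl.norm_extends l x
  · show ‖algebraMap K L (∏ i, Polynomial.aeval (θ' i) F)‖ = ‖algebraMap K L (∏ i, Polynomial.aeval (ω' i) F)‖
    simp only [map_prod, ← Polynomial.aeval_algebraMap_apply]
    show ‖∏ i, Polynomial.aeval (θ i) F‖ = ‖∏ i, Polynomial.aeval (ω i) F‖
    have e1 : ∏ i, Polynomial.aeval (ω i) F = (degQ (Polynomial.aeval φ F).toHom : L) := by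
      rw [degQ_aeval (L := L) hg φ P hPm hPd hP F, ← hω, Multiset.map_map]
      rfl
    have e2 : ∏ i, Polynomial.aeval (θ i) F = ι' (LinearMap.det (EndAV.End.tateRep l pΩ (Polynomial.aeval φ F))) := by
      have hT : EndAV.End.tateRep l pΩ (Polynomial.aeval φ F) = Polynomial.aeval T F :=
        map_aeval_int (EndAV.End.tateRep l pΩ) φ F
      rw [hT, ← LinearMap.det_toMatrix b, RingHom.map_det]
      have hM : ι'.mapMatrix (LinearMap.toMatrix b b (Polynomial.aeval T F)) =
          Polynomial.aeval M (F.map (Int.castRingHom L)) := by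
        let Ψ : Module.End ℤ_[l] (AbDual.TateMod A l pΩ) →+* Matrix (Fin (2 * g)) (Fin (2 * g)) L :=
          ι'.mapMatrix.comp (LinearMap.toMatrixAlgEquiv b).toAlgHom.toRingHom
        show Ψ (Polynomial.aeval T F) = _
        rw [map_aeval_int Ψ T F]
        exact (Polynomial.aeval_map_algebraMap L M F).symm
      rw [hM, det_aeval, ← hθ, Multiset.map_map]
      refine Finset.prod_congr rfl fun i _ => ?_
      show _ = (F.map (Int.castRingHom L)).eval (θ i)
      rw [Polynomial.eval_map, Polynomial.aeval_def]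
      rfl
    rw [e1, e2]
    show ‖algebraMap ℚ_[l] L (algebraMap ℤ_[l] ℚ_[l] _)‖ = _
    rw [show ((degQ (Polynomial.aeval φ F).toHom : ℚ) : L) =
        algebraMap ℚ_[l] L ((degQ (Polynomial.aeval φ F).toHom : ℚ) : ℚ_[l]) from (map_ratCast _ _).symm,
      PadicAlgCl.norm_extends, PadicAlgCl.norm_extends, norm_degQ Ω l hl]
    rfl

/-- The degree polynomial has integral coefficients. -/
theorem exists_int_isDegPoly {g : ℕ} (hg : topologicalKrullDim A.left = g) (φ : EndAV.End A) :
    ∃ P : Polynomial ℤ, P.Monic ∧ P.natDegree = 2 * g ∧ IsDegPoly φ (P.map (Int.castRingHom ℚ)) := by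
  obtain ⟨P, hPm, hPd, hP⟩ := exists_isDegPoly hg φ
  obtain ⟨l, hp, hl⟩ := AVHomForm.exists_prime_ne_zero (k := k)
  obtain ⟨hfree, hfin, hrk⟩ := AVHomForm.tate_free (AlgebraicClosure k) l hl A hg
  haveI := hfree
  haveI := hfin
  haveI : Module.Finite ℤ (EndAV.End A) := AVHomForm.moduleFinite_hom (A := A) (B := A)
  obtain ⟨h, hhm, hhφ⟩ := (Algebra.IsIntegral.isIntegral (R := ℤ) φ)
  let L := PadicAlgCl l
  have hT := charpoly_eq (AlgebraicClosure k) l hl hg φ hPm hPd hP
  set T := EndAV.End.tateRep l (Over.mk (Spec.map (CommRingCat.ofHom (algebraMap k (AlgebraicClosure k))))) φ with hTdef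
  have hint : ∀ w ∈ (P.map (algebraMap ℚ L)).roots, IsIntegral ℤ w := by
    intro w hw
    have hTh : Polynomial.aeval T h = 0 := by
      rw [hTdef]
      rw [← map_aeval_int (EndAV.End.tateRep l _) φ h, show Polynomial.aeval φ h = 0 from hhφ, map_zero]
    let b := Module.finBasisOfFinrankEq ℤ_[l] _ hrk
    let ι' : ℤ_[l] →+* L := (algebraMap ℚ_[l] L).comp (algebraMap ℤ_[l] ℚ_[l])
    let Ψ := ι'.mapMatrix.comp (LinearMap.toMatrixAlgEquiv b).toAlgHom.toRingHom
    have hΨ : Polynomial.aeval (Ψ T) h = 0 := by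
      rw [← map_aeval_int Ψ T h, hTh, map_zero]
    have hroot : w ∈ spectrum L (Ψ T) := by
      rw [Matrix.mem_spectrum_iff_isRoot_charpoly]
      have e : (Ψ T).charpoly = P.map (algebraMap ℚ L) := by
        show (ι'.mapMatrix (LinearMap.toMatrix b b T)).charpoly = _
        rw [RingHom.mapMatrix_apply, Matrix.charpoly_map, LinearMap.charpoly_toMatrix, ← Polynomial.map_map, hT,
          Polynomial.map_map]
        congr 1
      rw [e]
      exact (Polynomial.mem_roots'.1 hw).2
    have hmem := spectrum.subset_polynomial_aeval (Ψ T) (h.map (Int.castRingHom L)) ⟨w, hroot, rfl⟩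
    rw [show Polynomial.aeval (Ψ T) (h.map (Int.castRingHom L)) = Polynomial.aeval (Ψ T) h from
      Polynomial.aeval_map_algebraMap L (Ψ T) h, hΨ] at hmem
    haveI : Nonempty (Fin (2 * g)) := by
      by_contra hne
      have h0 : 2 * g = 0 := by simpa [Fin.pos_iff_nonempty.symm] using hne
      rw [Polynomial.eq_one_of_monic_natDegree_zero hPm (hPd.trans h0)] at hw
      simp at hw
    rw [spectrum.zero_eq] at hmem
    refine ⟨h, hhm, ?_⟩
    have hz := Set.mem_singleton_iff.1 hmem
    simp only [Polynomial.eval_map] at hz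
    rw [Subsingleton.elim (algebraMap ℤ L) (Int.castRingHom L)]
    exact hz
  have hcoeff : ∀ i, ∃ z : ℤ, (z : ℚ) = P.coeff i := fun i => by
    have hi : IsIntegral ℤ ((P.map (algebraMap ℚ L)).coeff i) := by
      have hfact := (IsAlgClosed.splits (P.map (algebraMap ℚ L))).eq_prod_roots_of_monic (hPm.map _)
      let R := integralClosure ℤ L
      let s : Multiset R := (P.map (algebraMap ℚ L)).roots.attach.map fun w => ⟨w.1, hint w.1 w.2⟩
      have e : ((s.map fun w => X - C w).prod).map (algebraMap R L) = P.map (algebraMap ℚ L) := by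
        rw [Polynomial.map_multiset_prod, Multiset.map_map, Multiset.map_map]
        conv_rhs => rw [hfact, ← Multiset.attach_map_val (P.map (algebraMap ℚ L)).roots, Multiset.map_map]
        congr 1
        refine Multiset.map_congr rfl fun w _ => ?_
        simp
      rw [← e, Polynomial.coeff_map]
      exact ((s.map fun w => X - C w).prod.coeff i).2
    rw [Polynomial.coeff_map] at hi
    have hi' : IsIntegral ℤ (P.coeff i) := (isIntegral_algHom_iff (IsScalarTower.toAlgHom ℤ ℚ L)
      (algebraMap ℚ L).injective).1 hi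
    exact IsIntegrallyClosed.isIntegral_iff.1 hi'
  obtain ⟨Q, hQ⟩ : P ∈ Polynomial.lifts (Int.castRingHom ℚ) := (Polynomial.lifts_iff_coeff_lifts P).2 fun i => hcoeff i
  have hinj : Function.Injective (Int.castRingHom ℚ) := Int.cast_injective
  refine ⟨Q, Polynomial.monic_of_injective hinj (by show (Q.map _).Monic; rw [show Q.map (Int.castRingHom ℚ) = P from hQ]; exact hPm), ?_, ?_⟩
  · rw [← Polynomial.natDegree_map_eq_of_injective hinj, show Q.map (Int.castRingHom ℚ) = P from hQ, hPd]
  · rw [show Q.map (Int.castRingHom ℚ) = P from hQ]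
    exact hP

/-- The characteristic polynomial on the Tate module is the integral degree polynomial. -/
theorem charpoly_eq_int (hl : (l : k) ≠ 0) [Module.Free ℤ_[l] (AbDual.TateMod A l pΩ)]
    [Module.Finite ℤ_[l] (AbDual.TateMod A l pΩ)]
    (φ : EndAV.End A) {Q : Polynomial ℤ} (hQ : IsDegPoly φ (Q.map (Int.castRingHom ℚ))) :
    (EndAV.End.tateRep l pΩ φ).charpoly = Q.map (Int.castRingHom ℤ_[l]) := by
  obtain ⟨g, hg⟩ := TorsPtsLib.exists_dim A
  obtain ⟨P, hPm, hPd, hP⟩ := exists_isDegPoly hg φ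
  have e := IsDegPoly.eq hQ hP
  refine Polynomial.map_injective (algebraMap ℤ_[l] ℚ_[l]) (IsFractionRing.injective ℤ_[l] ℚ_[l]) ?_
  rw [charpoly_eq Ω l hl hg φ hPm hPd hP, ← e, Polynomial.map_map, Polynomial.map_map]
  congr 1

end Groth.Agent.AVCharpoly
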