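import Groth.Agent.AVCharpoly.Apply
import Mathlib.FieldTheory.Minpoly.IsIntegrallyClosed
import Mathlib.RingTheory.Polynomial.GaussLemma
import Mathlib.Analysis.Complex.Polynomial.Basic
import Mathlib.RingTheory.Flat.Basic
import Mathlib.RingTheory.PrincipalIdealDomain

/-! Roots of degree polynomials and minimal polynomials of endomorphisms. -/

noncomputable section

set_option linter.style.haveILetI false
set_option linter.unusedSectionVars false
set_option maxHeartbeats 1000000
set_option synthInstance.maxHeartbeats 200000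

universe u v

open CategoryTheory MonoidalCategory CartesianMonoidalCategory MonObj GrpObj AlgebraicGeometry
open Polynomial

namespace Groth.Agent.AVCharpoly

open Groth.Agent

variable {k : Type u} [Field k] {A : Over (Spec (CommRingCat.of k))}
  [GrpObj A] [IsCommMonObj A] [IsProper A.hom] [GeometricallyIntegral A.hom]

/-- The roots of the degree polynomial of `F(φ)` are the `F(ω)`. -/
theorem roots_degPoly_aeval {L : Type v} [Field L] [CharZero L] [IsAlgClosed L] {g : ℕ}
    (hg : topologicalKrullDim A.left = g) (φ : EndAV.End A) (F : Polynomial ℤ) {P Q : Polynomial ℚ}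
    (hPm : P.Monic) (hPd : P.natDegree = 2 * g) (hP : IsDegPoly φ P)
    (hQ : IsDegPoly (Polynomial.aeval φ F) Q) :
    (Q.map (algebraMap ℚ L)).roots = (P.map (algebraMap ℚ L)).roots.map fun w => Polynomial.aeval w F := by
  set s := (P.map (algebraMap ℚ L)).roots with hs
  have hcard : Multiset.card s = 2 * g := by
    rw [hs, ← (IsAlgClosed.splits _).natDegree_eq_card_roots, Polynomial.natDegree_map, hPd]
  suffices h : Q.map (algebraMap ℚ L) = ((s.map fun w => Polynomial.aeval w F).map fun c => X - C c).prod by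
    rw [h, Polynomial.roots_multiset_prod_X_sub_C]
  refine Polynomial.eq_of_infinite_eval_eq _ _ ((Set.infinite_range_of_injective
    (Int.cast_injective (α := L))).mono ?_)
  rintro _ ⟨n, rfl⟩
  show Polynomial.eval (n : L) _ = Polynomial.eval (n : L) _
  have hsub : Polynomial.aeval φ F - (n : EndAV.End A) = Polynomial.aeval φ (F - (n : Polynomial ℤ)) := by
    rw [map_sub, map_intCast]
  have h1 : (Q.map (algebraMap ℚ L)).eval (n : L) = (s.map fun w => Polynomial.aeval w F - (n : L)).prod := by
    rw [show ((n : L)) = algebraMap ℚ L (n : ℚ) from (map_intCast _ n).symm, Polynomial.eval_map_apply, ← hQ n, hsub,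
      eq_ratCast, degQ_aeval (L := L) hg φ P hPm hPd hP]
    simp [hs]
  rw [h1, Polynomial.eval_multiset_prod, Multiset.map_map, Multiset.map_map]
  have e : ∀ t : Multiset L, (t.map fun w => Polynomial.aeval w F - (n : L)).prod =
      (-1) ^ Multiset.card t * (t.map ((Polynomial.eval (n : L) ∘ fun c => X - C c) ∘ fun w => Polynomial.aeval w F)).prod := by
    intro t
    induction t using Multiset.induction with
    | empty => simp
    | cons a t ih =>
      simp only [Multiset.map_cons, Multiset.prod_cons, Multiset.card_cons, ih, pow_succ, Function.comp_apply,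
        Polynomial.eval_sub, Polynomial.eval_X, Polynomial.eval_C]
      ring
  rw [e s, hcard]
  simp [pow_mul]

theorem isDegPoly_zero {g : ℕ} (hg : topologicalKrullDim A.left = g) :
    IsDegPoly (0 : EndAV.End A) ((X : Polynomial ℚ) ^ (2 * g)) := by
  intro n
  obtain ⟨P, hPm, hPd, hP⟩ := exists_isDegPoly hg (0 : EndAV.End A)
  have h := degQ_aeval (L := ℂ) hg (0 : EndAV.End A) P hPm hPd hP (-(n : Polynomial ℤ))
  have e : Polynomial.aeval (0 : EndAV.End A) (-(n : Polynomial ℤ)) = 0 - (n : EndAV.End A) := by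
    rw [map_neg, map_intCast, zero_sub]
  rw [e] at h
  have hcard : Multiset.card (P.map (algebraMap ℚ ℂ)).roots = 2 * g := by
    rw [← (IsAlgClosed.splits _).natDegree_eq_card_roots, Polynomial.natDegree_map, hPd]
  refine (algebraMap ℚ ℂ).injective ?_
  rw [eq_ratCast, h]
  simp [Multiset.map_const', Multiset.prod_replicate, hcard, pow_mul]

/-- Every root of the degree polynomial is a root of any polynomial killing the endomorphism. -/
theorem aeval_root_eq_zero {L : Type v} [Field L] [CharZero L] [IsAlgClosed L] {g : ℕ}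
    (hg : topologicalKrullDim A.left = g) (φ : EndAV.End A) {P : Polynomial ℚ}
    (hPm : P.Monic) (hPd : P.natDegree = 2 * g) (hP : IsDegPoly φ P) {h : Polynomial ℤ}
    (hh : Polynomial.aeval φ h = 0) {w : L} (hw : w ∈ (P.map (algebraMap ℚ L)).roots) :
    Polynomial.aeval w h = 0 := by
  have hr := roots_degPoly_aeval (L := L) hg φ h hPm hPd hP (Q := X ^ (2 * g)) (by rw [hh]; exact isDegPoly_zero hg)
  have hm : Polynomial.aeval w h ∈ (((X : Polynomial ℚ) ^ (2 * g)).map (algebraMap ℚ L)).roots :=
    hr ▸ Multiset.mem_map_of_mem _ hw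
  rw [Polynomial.map_pow, Polynomial.map_X, Polynomial.roots_X_pow, Multiset.mem_nsmul] at hm
  simpa using hm.2

omit [IsProper A.hom] [GeometricallyIntegral A.hom] in
theorem toEnd0_aeval (φ : EndAV.End A) (h : Polynomial ℤ) :
    EndAV.toEnd0 (Polynomial.aeval φ h) = Polynomial.aeval (EndAV.toEnd0 φ) (h.map (Int.castRingHom ℚ)) := by
  rw [← algebraMap_int_eq, Polynomial.aeval_map_algebraMap]
  exact map_aeval_int (EndAV.toEnd0 (A := A)).toRingHom φ h

theorem toEnd0_injective : Function.Injective (EndAV.toEnd0 : EndAV.End A → EndAV.End0 A) := by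
  haveI : Module.Free ℤ (EndAV.End A) := AVHomForm.moduleFree_hom (A := A) (B := A)
  exact Algebra.TensorProduct.includeRight_injective (Int.cast_injective (α := ℚ))

/-- The minimal polynomial over `ℚ` is integral, kills `φ`, and the lower powers are independent. -/
theorem exists_int_minpoly (φ : EndAV.End A) :
    ∃ ν : Polynomial ℤ, ν.Monic ∧ Polynomial.aeval φ ν = 0 ∧
      ν.map (Int.castRingHom ℚ) = minpoly ℚ (EndAV.toEnd0 φ) ∧
      LinearIndependent ℤ fun i : Fin ν.natDegree => φ ^ (i : ℕ) := by
  haveI : Module.Finite ℤ (EndAV.End A) := AVHomForm.moduleFinite_hom (A := A) (B := A)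
  obtain ⟨h, hhm, hhφ⟩ := (Algebra.IsIntegral.isIntegral (R := ℤ) φ)
  have hhφ' : Polynomial.aeval φ h = 0 := hhφ
  have h0 : Polynomial.aeval (EndAV.toEnd0 φ) (h.map (Int.castRingHom ℚ)) = 0 := by
    rw [← toEnd0_aeval, hhφ', map_zero]
  have hint : IsIntegral ℚ (EndAV.toEnd0 φ) := ⟨_, hhm.map _, h0⟩
  obtain ⟨ν, hν⟩ := IsIntegrallyClosed.eq_map_mul_C_of_dvd (R := ℤ) ℚ hhm
    (g := minpoly ℚ (EndAV.toEnd0 φ)) (by rw [algebraMap_int_eq]; exact minpoly.dvd ℚ _ h0)
  rw [(minpoly.monic hint).leadingCoeff, map_one, _root_.mul_one, algebraMap_int_eq] at hν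
  have hinj : Function.Injective (Int.castRingHom ℚ) := Int.cast_injective
  have hνm : ν.Monic := Polynomial.monic_of_injective hinj (hν ▸ minpoly.monic hint)
  have hd : (minpoly ℚ (EndAV.toEnd0 φ)).natDegree = ν.natDegree := by
    rw [← hν, Polynomial.natDegree_map_eq_of_injective hinj]
  refine ⟨ν, hνm, toEnd0_injective ?_, hν, ?_⟩
  · rw [toEnd0_aeval, hν, minpoly.aeval, map_zero]
  · have hl := (linearIndependent_pow (K := ℚ) (EndAV.toEnd0 φ)).restrict_scalars
      (R := ℤ) (show Function.Injective fun r : ℤ => r • (1 : ℚ) from fun a b hab => by simpa using hab)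
    have hl' : LinearIndependent ℤ ((EndAV.toEnd0 (A := A)).toLinearMap ∘ fun i : Fin ν.natDegree => φ ^ (i : ℕ)) := by
      refine (linearIndependent_equiv' (finCongr hd.symm) ?_).2 hl
      funext i
      simp [Function.comp_def]
    exact hl'.of_comp _

/-- The minimal polynomial on the Tate module. -/
theorem minpoly_tateRep (Ω : Type u) [Field Ω] [Algebra k Ω] [IsAlgClosed Ω] (l : ℕ) [Fact l.Prime]
    (hl : (l : k) ≠ 0) (φ : EndAV.End A) {ν : Polynomial ℤ} (hνm : ν.Monic)
    (hν0 : Polynomial.aeval φ ν = 0) (hνli : LinearIndependent ℤ fun i : Fin ν.natDegree => φ ^ (i : ℕ)) :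
    minpoly ℤ_[l] (EndAV.End.tateRep l (SGA7.pt Ω) φ) = ν.map (Int.castRingHom ℤ_[l]) := by
  set T := EndAV.End.tateRep l (SGA7.pt Ω) φ with hT
  have hli : LinearIndependent ℤ_[l] fun i : Fin ν.natDegree => T ^ (i : ℕ) := by
    simp only [hT, ← map_pow]
    exact AVHomForm.linearIndependent_tateMap Ω l hl (fun i : Fin ν.natDegree => φ ^ (i : ℕ)) hνli
  refine (minpoly.unique' ℤ_[l] T (hνm.map _) ?_ fun q hq => ?_).symm
  · rw [← algebraMap_int_eq, Polynomial.aeval_map_algebraMap, hT, ← map_aeval_int, hν0, map_zero]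
  · by_cases hq0 : q = 0
    · exact Or.inl hq0
    · refine Or.inr fun hz => hq0 ?_
      rw [hνm.degree_map, Polynomial.degree_eq_natDegree hνm.ne_zero] at hq
      have hlt : q.natDegree < ν.natDegree := (Polynomial.natDegree_lt_iff_degree_lt hq0).2 hq
      rw [Polynomial.aeval_eq_sum_range' hlt, Finset.sum_range] at hz
      have hc := Fintype.linearIndependent_iff.1 hli (fun i => q.coeff i) hz
      ext i
      by_cases hi : i < ν.natDegree
      · exact hc ⟨i, hi⟩
      · exact Polynomial.coeff_eq_zero_of_natDegree_lt (by omega)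

/-- A degree polynomial is a power of an irreducible minimal polynomial. -/
theorem eq_pow_of_irreducible {g : ℕ} (hg : topologicalKrullDim A.left = g) (φ : EndAV.End A) {P : Polynomial ℚ}
    (hPm : P.Monic) (hPd : P.natDegree = 2 * g) (hP : IsDegPoly φ P) {ν : Polynomial ℤ} (hνm : ν.Monic)
    (hν0 : Polynomial.aeval φ ν = 0) (hirr : Irreducible (ν.map (Int.castRingHom ℚ))) :
    P = ν.map (Int.castRingHom ℚ) ^ (2 * g / (ν.map (Int.castRingHom ℚ)).natDegree) := by
  classical
  set m := ν.map (Int.castRingHom ℚ) with hm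
  have hfac : ∀ q ∈ UniqueFactorizationMonoid.normalizedFactors P, q = m := by
    intro q hq
    have hqi := UniqueFactorizationMonoid.irreducible_of_normalized_factor q hq
    have hqm : q.Monic := by
      rw [← UniqueFactorizationMonoid.normalize_normalized_factor q hq]
      exact Polynomial.monic_normalize hqi.ne_zero
    obtain ⟨w, hw⟩ := IsAlgClosed.exists_aeval_eq_zero ℂ q hqi.degree_pos.ne'
    have hwP : w ∈ (P.map (algebraMap ℚ ℂ)).roots := by
      refine (Polynomial.mem_roots (hPm.map _).ne_zero).2 ?_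
      show (P.map _).eval w = 0
      rw [Polynomial.eval_map_algebraMap]
      exact Polynomial.aeval_eq_zero_of_dvd_aeval_eq_zero (UniqueFactorizationMonoid.dvd_of_mem_normalizedFactors hq) hw
    have hwm : Polynomial.aeval w m = 0 := by
      rw [hm, ← algebraMap_int_eq, Polynomial.aeval_map_algebraMap]
      exact aeval_root_eq_zero hg φ hPm hPd hP hν0 hwP
    rw [minpoly.eq_of_irreducible_of_monic hqi hw hqm, minpoly.eq_of_irreducible_of_monic hirr hwm (hνm.map _)]
  have hrep := Multiset.eq_replicate_card.2 hfac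
  have hass := UniqueFactorizationMonoid.prod_normalizedFactors hPm.ne_zero
  rw [hrep, Multiset.prod_replicate] at hass
  have heq := Polynomial.eq_of_monic_of_associated ((hνm.map _).pow _) hPm hass
  have hpos : 0 < m.natDegree := hirr.natDegree_pos
  have hcount : Multiset.card (UniqueFactorizationMonoid.normalizedFactors P) = 2 * g / m.natDegree := by
    rw [← hPd, ← congrArg Polynomial.natDegree heq, Polynomial.natDegree_pow, Nat.mul_div_cancel _ hpos]
  rw [← hcount]
  exact heq.symm

end Groth.Agent.AVCharpoly
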