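import Groth.Agent.AVDegPoly.Main
import Groth.Agent.AVSubLib.DegDet
import Groth.Prelude.Def_EndRing
import Mathlib.FieldTheory.IsAlgClosed.Basic

/-! The degree is a norm on the ring generated by one endomorphism. -/

noncomputable section

set_option linter.style.haveILetI false
set_option linter.unusedSectionVars false
set_option maxHeartbeats 1000000
set_option synthInstance.maxHeartbeats 200000
set_option backward.isDefEq.respectTransparency false
set_option backward.isDefEq.respectTransparency.types false

universe u v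

open CategoryTheory CategoryTheory.Limits MonoidalCategory CartesianMonoidalCategory MonObj GrpObj AlgebraicGeometry

namespace Groth.Agent.AVCharpoly

open Groth.Agent

variable {k : Type u} [Field k] {A : Over (Spec (CommRingCat.of k))}
  [GrpObj A] [IsCommMonObj A] [IsProper A.hom] [GeometricallyIntegral A.hom]

open scoped Classical in
/-- The degree, zero for non-finite maps. -/
def degQ (F : A ⟶ A) : ℚ :=
  if IsFinite F.left then (F.left.finrank (η[A].left (IsLocalRing.closedPoint k)) : ℚ) else 0

theorem degQ_of_finite (F : A ⟶ A) (h : IsFinite F.left) :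
    degQ F = (F.left.finrank (η[A].left (IsLocalRing.closedPoint k)) : ℚ) := if_pos h

theorem degQ_of_not (F : A ⟶ A) (h : ¬ IsFinite F.left) : degQ F = 0 := if_neg h

theorem degQ_eq {F : A ⟶ A} {v : ℚ} (h1 : IsFinite F.left → ∀ a : A.left, (F.left.finrank a : ℚ) = v)
    (h2 : ¬ IsFinite F.left → v = 0) : degQ F = v := by
  by_cases h : IsFinite F.left
  · rw [degQ_of_finite F h, h1 h]
  · rw [degQ_of_not F h, h2 h]

theorem degQ_id : degQ (𝟙 A : A ⟶ A) = 1 := by
  rw [degQ_of_finite _ (inferInstanceAs (IsFinite (𝟙 A.left))), Over.id_left, Scheme.Hom.finrank_eq_one_of_isIso]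
  simp

theorem finrank_eq_degQ (F : A ⟶ A) [IsMonHom F] (h : IsFinite F.left) (a : A.left) :
    (F.left.finrank a : ℚ) = degQ F := by
  haveI : IsIntegral A.left := GeometricallyIntegral.isIntegral_of_subsingleton A.hom
  haveI := h
  obtain ⟨g, hg⟩ := TorsPtsLib.exists_dim A
  haveI : Surjective F.left := H23.Isogeny.surjective_of_isFinite A.hom A.hom F.left (Over.w F) rfl
  obtain ⟨-, hflat, hlfp⟩ := AVDegPoly.isFinite_of_surjective hg hg F
  haveI := hflat
  haveI := hlfp
  rw [degQ_of_finite F h]
  exact congrArg Nat.cast (F.left.isLocallyConstant_finrank.apply_eq_of_preconnectedSpace _ _)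

theorem degQ_comp (F G : A ⟶ A) [IsMonHom F] [IsMonHom G] : degQ (F ≫ G) = degQ G * degQ F := by
  haveI : IsIntegral A.left := GeometricallyIntegral.isIntegral_of_subsingleton A.hom
  obtain ⟨g, hg⟩ := TorsPtsLib.exists_dim A
  haveI : IsProper (G.left ≫ A.hom) := by rw [Over.w G]; infer_instance
  haveI : IsProper G.left := IsProper.of_comp G.left A.hom
  haveI : IsProper (F.left ≫ A.hom) := by rw [Over.w F]; infer_instance
  haveI : IsProper F.left := IsProper.of_comp F.left A.hom
  by_cases hG : IsFinite G.left
  · by_cases hF : IsFinite F.left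
    · haveI := hF; haveI := hG
      haveI : Surjective F.left := H23.Isogeny.surjective_of_isFinite A.hom A.hom F.left (Over.w F) rfl
      haveI : Surjective G.left := H23.Isogeny.surjective_of_isFinite A.hom A.hom G.left (Over.w G) rfl
      obtain ⟨-, hflat, hlfp⟩ := AVDegPoly.isFinite_of_surjective hg hg F
      obtain ⟨-, hflat', hlfp'⟩ := AVDegPoly.isFinite_of_surjective hg hg G
      haveI := hflat; haveI := hlfp; haveI := hflat'; haveI := hlfp'
      have hc : IsFinite (F ≫ G).left := inferInstanceAs (IsFinite (F.left ≫ G.left))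
      let e := η[A].left (IsLocalRing.closedPoint k)
      rw [degQ_of_finite _ hF, degQ_of_finite _ hG, degQ_of_finite _ hc,
        AVSubLib.finrank_comp F G e e, Nat.cast_mul]
    · rw [degQ_of_not F hF, mul_zero, degQ_of_not _ fun hc => hF ?_]
      haveI : IsFinite (F.left ≫ G.left) := hc
      exact IsFinite.of_comp F.left G.left
  · rw [degQ_of_not G hG, zero_mul, degQ_of_not _ fun hc => hG ?_]
    haveI : IsFinite (F ≫ G).left := hc
    haveI : Surjective (F.left ≫ G.left) :=
      H23.Isogeny.surjective_of_isFinite A.hom A.hom (F ≫ G).left (Over.w (F ≫ G)) rfl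
    haveI : Surjective G.left := Surjective.of_comp F.left G.left
    exact (AVDegPoly.isFinite_of_surjective hg hg G).1

open Polynomial in
/-- The degree of `G (φ)` as a form in the coefficients of `G`. -/
theorem exists_norm {g : ℕ} (hg : topologicalKrullDim A.left = g) (φ : EndAV.End A) :
    ∃ N : (m : ℕ) → MvPolynomial (Fin (m + 1)) ℚ, (∀ m, (N m).IsHomogeneous (2 * g)) ∧
      ∀ m (G : Polynomial ℤ), G.natDegree ≤ m →
        degQ (Polynomial.aeval φ G).toHom = MvPolynomial.eval (fun i : Fin (m + 1) => (G.coeff i : ℚ)) (N m) := by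
  choose N hN hNv using fun m : ℕ =>
    AVDegPoly.exists_degree_poly hg hg (fun i : Fin (m + 1) => (φ ^ (i : ℕ)).toHom)
  refine ⟨N, hN, fun m G hG => ?_⟩
  have hprod : ∏ i : Fin (m + 1), (φ ^ (i : ℕ)).toHom ^ G.coeff i = (Polynomial.aeval φ G).toHom := by
    let j : EndAV.End A →+ Additive (A ⟶ A) :=
      { toFun := fun ψ => Additive.ofMul ψ.toHom, map_zero' := rfl, map_add' := fun _ _ => rfl }
    have h : (∑ i : Fin (m + 1), G.coeff i • φ ^ (i : ℕ)) = Polynomial.aeval φ G := by
      rw [Fin.sum_univ_eq_sum_range (fun i => G.coeff i • φ ^ i), Polynomial.aeval_eq_sum_range' (Nat.lt_succ_of_le hG)]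
    have h2 := congrArg (fun ψ => (j ψ).toMul) h
    simp only [map_sum, map_zsmul, toMul_sum, toMul_zsmul] at h2
    exact h2
  have h := hNv m fun i => G.coeff i
  rw [hprod] at h
  exact degQ_eq h.1 h.2

variable (L : Type v) [Field L] [CharZero L]

/-- Evaluation at the coefficients. -/
def nm {m : ℕ} (N : MvPolynomial (Fin (m + 1)) ℚ) (G : Polynomial L) : L :=
  MvPolynomial.aeval (fun i : Fin (m + 1) => G.coeff i) N

theorem nm_int {m : ℕ} (N : MvPolynomial (Fin (m + 1)) ℚ) (G : Polynomial ℤ) :
    nm L N (G.map (Int.castRingHom L)) =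
      algebraMap ℚ L (MvPolynomial.eval (fun i : Fin (m + 1) => (G.coeff i : ℚ)) N) := by
  rw [nm, ← MvPolynomial.aeval_eq_eval, ← MvPolynomial.aeval_algebraMap_apply]
  congr 2
  funext i
  simp

theorem ext_int {σ : Type} {P Q : MvPolynomial σ ℚ}
    (h : ∀ a : σ → ℤ, MvPolynomial.eval (fun i => (a i : ℚ)) P = MvPolynomial.eval (fun i => (a i : ℚ)) Q) : P = Q := by
  refine MvPolynomial.funext_set (fun _ => Set.range ((↑) : ℤ → ℚ))
    (fun _ => Set.infinite_range_of_injective Int.cast_injective) fun x hx => ?_
  choose n hn using fun i => hx i (Set.mem_univ i)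
  rw [← (funext hn : (fun i => (n i : ℚ)) = x)]
  exact h n

open Polynomial in
/-- The polynomial with given coefficients. -/
def pol {R : Type*} [CommRing R] {m : ℕ} (c : Fin (m + 1) → R) : Polynomial R :=
  ∑ i, C (c i) * X ^ (i : ℕ)

open Polynomial in
theorem pol_map {R S : Type*} [CommRing R] [CommRing S] (f : R →+* S) {m : ℕ} (c : Fin (m + 1) → R) :
    (pol c).map f = pol (fun i => f (c i)) := by
  simp [pol, Polynomial.map_sum]

open Polynomial in
theorem pol_natDegree_le {R : Type*} [CommRing R] {m : ℕ} (c : Fin (m + 1) → R) : (pol c).natDegree ≤ m :=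
  natDegree_sum_le_of_forall_le _ _ fun i _ => (natDegree_C_mul_X_pow_le _ _).trans (by omega)

open Polynomial in
theorem pol_coeff {R : Type*} [CommRing R] {G : Polynomial R} {m : ℕ} (h : G.natDegree ≤ m) :
    pol (fun i : Fin (m + 1) => G.coeff i) = G := by
  rw [pol, Fin.sum_univ_eq_sum_range (fun i => C (G.coeff i) * X ^ i)]
  exact (G.as_sum_range_C_mul_X_pow' (Nat.lt_succ_of_le h)).symm

variable {L} [IsAlgClosed L]

open Polynomial in
/-- `deg (F φ) = ∏ F (ω)` over the roots of the degree polynomial. -/
theorem degQ_aeval {g : ℕ} (hg : topologicalKrullDim A.left = g) (φ : EndAV.End A) (P : Polynomial ℚ)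
    (hPm : P.Monic) (hPd : P.natDegree = 2 * g)
    (hP : ∀ n : ℤ, degQ (φ - (n : EndAV.End A)).toHom = P.eval (n : ℚ)) (F : Polynomial ℤ) :
    (degQ (Polynomial.aeval φ F).toHom : L) =
      ((P.map (algebraMap ℚ L)).roots.map fun ω => Polynomial.aeval ω F).prod := by
  classical
  obtain ⟨N, hN, hNv⟩ := exists_norm hg φ
  let ω := (P.map (algebraMap ℚ L)).roots
  have hsp : (P.map (algebraMap ℚ L)).Splits := IsAlgClosed.splits _
  have hcard : Multiset.card ω = 2 * g := by
    rw [← hPd, ← Polynomial.natDegree_map (algebraMap ℚ L)]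
    exact hsp.natDegree_eq_card_roots.symm
  -- multiplicativity
  have hmulQ : ∀ m m' : ℕ, ∀ (G H : Polynomial L), G.natDegree ≤ m → H.natDegree ≤ m' →
      nm L (N (m + m')) (G * H) = nm L (N m) G * nm L (N m') H := by
    intro m m' G H hG hH
    let R := MvPolynomial (Fin (m + 1) ⊕ Fin (m' + 1)) ℚ
    let G₀ : Polynomial R := pol fun i => MvPolynomial.X (Sum.inl i)
    let H₀ : Polynomial R := pol fun i => MvPolynomial.X (Sum.inr i)
    have key : MvPolynomial.aeval (fun i : Fin (m + m' + 1) => (G₀ * H₀).coeff i) (N (m + m')) =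
        MvPolynomial.aeval (fun i : Fin (m + 1) => MvPolynomial.X (Sum.inl i)) (N m) *
          MvPolynomial.aeval (fun i : Fin (m' + 1) => MvPolynomial.X (Sum.inr i)) (N m') := by
      refine ext_int fun a => ?_
      let G₁ : Polynomial ℤ := pol fun i => a (Sum.inl i)
      let H₁ : Polynomial ℤ := pol fun i => a (Sum.inr i)
      have hc : ∀ j : ℕ, MvPolynomial.eval (fun i => (a i : ℚ)) ((G₀ * H₀).coeff j) = ((G₁ * H₁).coeff j : ℚ) := by
        intro j
        have e : (G₀ * H₀).map (MvPolynomial.eval fun i => (a i : ℚ)) = (G₁ * H₁).map (Int.castRingHom ℚ) := by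
          rw [Polynomial.map_mul, Polynomial.map_mul, pol_map, pol_map, pol_map, pol_map]
          simp
        have e' := congrArg (fun p : Polynomial ℚ => p.coeff j) e
        simpa only [Polynomial.coeff_map, eq_intCast] using e'
      rw [map_mul, Snapper.eval_aeval, Snapper.eval_aeval, Snapper.eval_aeval]
      simp only [hc, MvPolynomial.eval_X]
      have hG₁ : ∀ i : Fin (m + 1), G₁.coeff i = a (Sum.inl i) := fun i => by
        simp [G₁, pol, Polynomial.finsetSum_coeff, Polynomial.coeff_X_pow, Fin.val_inj, Finset.sum_ite_eq]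
      have hH₁ : ∀ i : Fin (m' + 1), H₁.coeff i = a (Sum.inr i) := fun i => by
        simp [H₁, pol, Polynomial.finsetSum_coeff, Polynomial.coeff_X_pow, Fin.val_inj, Finset.sum_ite_eq]
      simp only [← hG₁, ← hH₁]
      rw [← hNv m G₁ (pol_natDegree_le _), ← hNv m' H₁ (pol_natDegree_le _),
        ← hNv (m + m') (G₁ * H₁) (Polynomial.natDegree_mul_le.trans (add_le_add (pol_natDegree_le _) (pol_natDegree_le _))),
        map_mul, EndAV.End.toHom_mul, degQ_comp]
    let x : Fin (m + 1) ⊕ Fin (m' + 1) → L := Sum.elim (fun i => G.coeff i) fun i => H.coeff i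
    have hGH : (G₀ * H₀).map ((MvPolynomial.aeval x : R →ₐ[ℚ] L).toRingHom) = G * H := by
      rw [Polynomial.map_mul, pol_map, pol_map]
      simp only [x, AlgHom.toRingHom_eq_coe, RingHom.coe_coe, MvPolynomial.aeval_X, Sum.elim_inl, Sum.elim_inr,
        pol_coeff hG, pol_coeff hH]
    have h := congrArg (MvPolynomial.aeval x) key
    rw [map_mul, MvPolynomial.comp_aeval_apply, MvPolynomial.comp_aeval_apply, MvPolynomial.comp_aeval_apply] at h
    simp only [MvPolynomial.aeval_X, x, Sum.elim_inl, Sum.elim_inr] at h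
    refine Eq.trans ?_ h
    rw [nm, ← hGH]
    simp only [Polynomial.coeff_map]
    rfl
  have hlin : ∀ c : L, nm L (N 1) (X - C c) = (P.map (algebraMap ℚ L)).eval c := by
    intro c
    have key : MvPolynomial.aeval (![-MvPolynomial.X (), 1] : Fin 2 → MvPolynomial Unit ℚ) (N 1) =
        Polynomial.aeval (MvPolynomial.X () : MvPolynomial Unit ℚ) P := by
      refine ext_int fun a => ?_
      have hd : (X - C (a ()) : Polynomial ℤ).natDegree ≤ 1 := (natDegree_X_sub_C_le _)
      have h := hNv 1 (X - C (a ())) hd
      rw [map_sub, Polynomial.aeval_X, Polynomial.aeval_C, eq_intCast, hP] at h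
      have e : MvPolynomial.eval (fun i => (a i : ℚ)) (Polynomial.aeval (MvPolynomial.X () : MvPolynomial Unit ℚ) P) =
          P.eval (a () : ℚ) := by
        clear h hPm hPd hP hsp hcard
        induction P using Polynomial.induction_on' with
        | add p q hp hq => simp [hp, hq]
        | monomial n c => simp
      rw [Snapper.eval_aeval, e, h]
      congr 2
      funext i
      fin_cases i <;> simp [Polynomial.coeff_X, Polynomial.coeff_C, -eq_intCast, -map_intCast]
    have h := congrArg (MvPolynomial.aeval (fun _ : Unit => c)) key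
    rw [MvPolynomial.comp_aeval_apply, ← Polynomial.aeval_algHom_apply, MvPolynomial.aeval_X] at h
    rw [Polynomial.eval_map, ← Polynomial.aeval_def, ← h, nm]
    congr 2
    funext i
    fin_cases i <;> simp
  have hpad : ∀ m m' : ℕ, m ≤ m' → ∀ G : Polynomial L, G.natDegree ≤ m → nm L (N m') G = nm L (N m) G := by
    intro m m' hmm G hG
    obtain ⟨d, rfl⟩ := Nat.exists_eq_add_of_le hmm
    have h := hmulQ m d G 1 hG (by simp)
    rw [_root_.mul_one] at h
    have h1 : nm L (N d) (1 : Polynomial L) = 1 := by
      have h' := nm_int L (N d) (1 : Polynomial ℤ)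
      rw [← hNv d 1 (by simp), map_one, EndAV.End.toHom_one, degQ_id, map_one, Polynomial.map_one] at h'
      exact h'
    rw [h, h1, _root_.mul_one]
  have hconst : ∀ a : L, nm L (N 0) (C a) = a ^ (2 * g) := by
    intro a
    have h1 : nm L (N 0) (1 : Polynomial L) = 1 := by
      have h' := nm_int L (N 0) (1 : Polynomial ℤ)
      rw [← hNv 0 1 (by simp), map_one, EndAV.End.toHom_one, degQ_id, map_one, Polynomial.map_one] at h'
      exact h'
    have e : (fun i : Fin 1 => (C a).coeff i) = fun i : Fin 1 => a * (1 : Polynomial L).coeff i := by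
      funext i; fin_cases i; simp
    rw [nm, e, MvPolynomial.aeval_def, MvPolynomial.eval₂_eq]
    rw [nm, MvPolynomial.aeval_def, MvPolynomial.eval₂_eq] at h1
    calc _ = a ^ (2 * g) * ∑ d ∈ (N 0).support, algebraMap ℚ L ((N 0).coeff d) *
          ∏ i ∈ d.support, (1 : Polynomial L).coeff i ^ d i := by
          rw [Finset.mul_sum]
          refine Finset.sum_congr rfl fun d hd => ?_
          have hdeg : ∑ i ∈ d.support, d i = 2 * g := by
            have := hN 0 (MvPolynomial.mem_support_iff.1 hd)
            rw [← this]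
            simp [Finsupp.weight_apply, Finsupp.sum]
          simp only [mul_pow, Finset.prod_mul_distrib, Finset.prod_pow_eq_pow_sum, hdeg]
          ring
      _ = a ^ (2 * g) := by rw [h1, _root_.mul_one]
  -- induction on the roots
  have hind : ∀ (a : L) (s : Multiset L), nm L (N (Multiset.card s)) (C a * (s.map fun c => X - C c).prod) =
      (ω.map fun w => (C a * (s.map fun c => X - C c).prod).eval w).prod := by
    intro a s
    induction s using Multiset.induction with
    | empty => simp [hconst, Multiset.map_const', Multiset.prod_replicate, hcard]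
    | cons c s ih =>
      rw [Multiset.card_cons, Multiset.map_cons, Multiset.prod_cons,
        show C a * ((X - C c) * (s.map fun c => X - C c).prod) = C a * (s.map fun c => X - C c).prod * (X - C c) by ring,
        hmulQ _ _ _ _ ((natDegree_C_mul_le _ _).trans (le_of_eq (natDegree_multiset_prod_X_sub_C_eq_card s)))
          (natDegree_X_sub_C_le _), ih, hlin]
      simp only [Polynomial.eval_mul, Multiset.prod_map_mul]
      congr 1
      conv_lhs => rw [hsp.eq_prod_roots_of_monic (hPm.map _)]
      rw [Polynomial.eval_multiset_prod, Multiset.map_map]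
      have hev : (-1 : L) ^ Multiset.card ω = 1 := by rw [hcard, pow_mul, neg_one_sq, one_pow]
      calc ((P.map (algebraMap ℚ L)).roots.map (Polynomial.eval c ∘ fun x => X - C x)).prod
          = (ω.map fun w => c - w).prod := by simp [ω]
        _ = (ω.map fun w => (-1 : L) * (w - c)).prod := by simp
        _ = _ := by rw [Multiset.prod_map_mul, Multiset.map_const', Multiset.prod_replicate, hev, _root_.one_mul]; simp
  let G := F.map (Int.castRingHom L)
  have hG : G.natDegree ≤ F.natDegree := natDegree_map_le
  have h := nm_int L (N F.natDegree) F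
  rw [← hNv F.natDegree F le_rfl] at h
  have hGs : G.Splits := IsAlgClosed.splits G
  have hGe : C G.leadingCoeff * (G.roots.map fun c => X - C c).prod = G := hGs.eq_prod_roots.symm
  have hfin := hind G.leadingCoeff G.roots
  rw [hGe] at hfin
  rw [hpad _ _ ((Polynomial.card_roots' G).trans hG) G (le_of_eq hGs.natDegree_eq_card_roots), hfin] at h
  rw [eq_ratCast] at h
  rw [← h]
  congr 1
  refine Multiset.map_congr rfl fun w _ => ?_
  rw [Polynomial.eval_map, Polynomial.aeval_def]
  rfl

end Groth.Agent.AVCharpoly
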